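import Groth.Agent.Pi1.H391.Stmts3
import Groth.Agent.Pi1.H415.Trans

/-!
# (S2) of S3689: finite etale covers of the complement in `Spec R` as algebras

Glue of `Groth.Agent.Pi1.H415.Trans`.
-/

set_option autoImplicit false
universe u

open CategoryTheory CategoryTheory.Limits AlgebraicGeometry TensorProduct IsLocalRing

namespace Groth.Agent.Pi1.H940.SchemeAlg

open Groth.Agent.Pi1.H415 Groth.Agent.Pi1.H415.Glue

/-- Translation of a finite etale cover of the complement in `Spec R` into an algebra. -/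
theorem schemeAlg : Groth.Agent.Pi1.H391.Stmts3.SchemeAlg.{u} := by
  intro X r φ x R _ _ _ _ _ V₁ Rt _ _ _
  have hU := Trans.cmpl_eq φ x R
  have h1 : IsFinite V₁.hom := V₁.prop.1
  have h2 : Etale V₁.hom := V₁.prop.2
  obtain ⟨C, _, _, _, _, e, he⟩ :=
    Trans.exists_alg (cmpl φ x R) (∏ i, eqs φ x R i) hU Rt V₁.hom
  refine ⟨C, inferInstance, inferInstance, inferInstance, inferInstance, ?_, ?_⟩
  · intro L _ g
    exact Trans.exists_point (cmpl φ x R) V₁.hom Rt C e he g
  · intro n Q _ _ _ _ _ _ _ h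
    refine Trans.ptSplit_of_alg (cmpl φ x R) (∏ i, eqs φ x R i) hU (eqs φ x R) n Rt Q ?_ V₁.hom C e he h
    rw [← IsScalarTower.algebraMap_eq, ← IsScalarTower.algebraMap_eq]

end Groth.Agent.Pi1.H940.SchemeAlg
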